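import Mathlib
import Cfsg.Agent.H152.AbDesc
import Cfsg.Agent.H890.SpParity
import Cfsg.Agent.LieClassical.OrthTrans

/-!
# S2451 (A), orthogonal rows: stable flags of `p`-groups (helper530)

* `exists_fix_sing` : a `p`-group acting on a quadratic space of dimension at least three over a finite field of
  characteristic `p` fixes a nonzero singular vector (Chevalley-Warning);
* `flag` : a `p`-group of isometries of a nondegenerate space of dimension `2 k + d`, `d ∈ {1, 2}`, stabilises a totally
  singular subspace `S` of dimension `k` and acts trivially on `S^⊥ / S` (`p` odd or even parity).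
-/

set_option autoImplicit false
set_option linter.unusedSectionVars false

namespace Cfsg.Agent.H530.NA

open QuadraticMap Module Cfsg.Agent.H152.AbDesc
open Cfsg.Agent.LieClassical.OrthCore Cfsg.Agent.LieClassical.OrthTrans

universe u w

section count

open MvPolynomial

variable {F U : Type*} [Field F] [Finite F] [AddCommGroup U] [Module F U] [FiniteDimensional F U]

/-- Chevalley-Warning for one quadratic form. -/
theorem dvd_card_sing (p : ℕ) [Fact p.Prime] [CharP F p] (Q : QuadraticForm F U) (h : 3 ≤ finrank F U) :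
    p ∣ Nat.card {u : U // Q u = 0} := by
  classical
  have : Fintype F := Fintype.ofFinite F
  let b := Module.finBasis F U
  let f := Q.toBilin b
  have hfQ : ∀ u, f u u = Q u := fun u => by
    have := congrArg (fun R : QuadraticForm F U => R u) (QuadraticMap.toQuadraticMap_toBilin Q b)
    exact this
  let P : MvPolynomial (Fin (finrank F U)) F := ∑ i, ∑ j, C (f (b i) (b j)) * (X i * X j)
  have hdeg : P.totalDegree ≤ 2 := by
    refine totalDegree_finsetSum_le fun i _ => totalDegree_finsetSum_le fun j _ => ?_
    refine (totalDegree_mul _ _).trans ?_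
    rw [totalDegree_C, zero_add]
    refine (totalDegree_mul _ _).trans ?_
    rw [totalDegree_X, totalDegree_X]
  have heval : ∀ x : Fin (finrank F U) → F, eval x P = f (∑ i, x i • b i) (∑ i, x i • b i) := by
    intro x
    have h1 : eval x P = ∑ i, ∑ j, f (b i) (b j) * (x i * x j) := by
      simp only [P, map_sum, map_mul, eval_C, eval_X]
    rw [h1, map_sum f, LinearMap.sum_apply]
    refine Finset.sum_congr rfl fun i _ => ?_
    rw [map_sum, map_smul]
    refine Finset.sum_congr rfl fun j _ => ?_
    rw [map_smul, smul_eq_mul, LinearMap.smul_apply, smul_eq_mul]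
    ring
  have hsum : P.totalDegree < Fintype.card (Fin (finrank F U)) := by
    rw [Fintype.card_fin]
    omega
  have hdvd := char_dvd_card_solutions (K := F) p (f := P) hsum
  rw [← Nat.card_eq_fintype_card] at hdvd
  have e : {x : Fin (finrank F U) → F // eval x P = 0} ≃ {u : U // Q u = 0} :=
    b.equivFun.symm.toEquiv.subtypeEquiv fun x => by
      rw [heval, hfQ]
      show Q (∑ i, x i • b i) = 0 ↔ Q (b.equivFun.symm x) = 0
      rw [b.equivFun_symm_apply]
  rwa [Nat.card_congr e] at hdvd

end count

section

variable {F : Type*} [Field F] [Finite F] {V : Type u} [AddCommGroup V] [Module F V] [FiniteDimensional F V]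
  {X : Type w} [Group X] {p : ℕ} [Fact p.Prime] [CharP F p] {Q : QuadraticForm F V} {ρ : X →* Module.End F V}

/-- A `p`-group fixes a nonzero singular vector. -/
theorem exists_fix_sing (hX : IsPGroup p X) (hQ : ∀ g x, Q (ρ g x) = Q x) (h : 3 ≤ finrank F V) :
    ∃ v : V, v ≠ 0 ∧ Q v = 0 ∧ ∀ g, ρ g v = v := by
  have : Finite V := Module.finite_of_finite F
  let _ : MulAction X {v : V // Q v = 0} :=
    { smul := fun g v => ⟨ρ g v.1, by rw [hQ, v.2]⟩
      one_smul := fun v => Subtype.ext (by change ρ 1 v.1 = v.1; rw [map_one]; rfl)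
      mul_smul := fun g h v => Subtype.ext (by change ρ (g * h) v.1 = ρ g (ρ h v.1); rw [map_mul]; rfl) }
  have hsm : ∀ (g : X) (v : {v : V // Q v = 0}), (g • v).1 = ρ g v.1 := fun _ _ => rfl
  have hp := dvd_card_sing p Q h
  have h0 : (⟨0, QuadraticMap.map_zero Q⟩ : {v : V // Q v = 0}) ∈ MulAction.fixedPoints X {v : V // Q v = 0} :=
    fun g => Subtype.ext (by rw [hsm, map_zero])
  obtain ⟨b, hb, hb0⟩ := hX.exists_fixed_point_of_prime_dvd_card_of_fixed_point _ hp h0
  exact ⟨b.1, fun h => hb0 (Subtype.ext h.symm), b.2, fun g => congrArg Subtype.val (hb g)⟩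

/-- the dimension of the fixed space -/
noncomputable def pf (f : Module.End F V) : ℕ := finrank F (LinearMap.ker (f - 1))

theorem mem_ker_sub_one {f : Module.End F V} {v : V} : v ∈ LinearMap.ker (f - 1) ↔ f v = v := by
  rw [LinearMap.mem_ker, LinearMap.sub_apply, Module.End.one_apply, sub_eq_zero]

theorem refl' (x y : V) (h : polarBilin Q x y = 0) : polarBilin Q y x = 0 := by
  rw [polarBilin_apply_apply, polar_comm]
  exact h

/-- hyperbolic pairs -/
theorem hp_of_hyp {v w : V} (h : Hyp Q v w) : HP (polarBilin Q) v w :=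
  ⟨fun x y => refl' x y, h.polar_left, h.polar_right, h.pair⟩

theorem act_of (hQ : ∀ g x, Q (ρ g x) = Q x) {v : V} (hv : ∀ g, ρ g v = v) : Act (polarBilin Q) v ρ :=
  ⟨hv, fun g x y => by simp only [polarBilin_apply_apply, polar, ← map_add, hQ]⟩

theorem Q_sub_smul (v x : V) (c : F) : Q (x - c • v) = Q x + c * c * Q v - c * polar Q x v := by
  have h1 : x - c • v = x + (-c) • v := by rw [neg_smul, sub_eq_add_neg]
  rw [h1, Q_add, QuadraticMap.map_smul, polar_smul_right, smul_eq_mul, smul_eq_mul]
  ring

/-- The descended action preserves the quadratic form. -/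
theorem desc_quad {v w : V} (h : HP (polarBilin Q) v w) (a : Act (polarBilin Q) v ρ) (hv : Q v = 0)
    (hQ : ∀ g x, Q (ρ g x) = Q x) (g : X) (x : perp (polarBilin Q) v w) :
    Q (desc h a g x) = Q x := by
  have h1 : polar Q (ρ g x) v = 0 := by
    have h2 := a.left g (x : V)
    rw [polarBilin_apply_apply] at h2
    rw [h2]
    exact h.refl _ _ (mem_perp.1 x.2).1
  rw [coe_desc, Q_sub_smul, h1, hv, hQ]
  ring

/-- the form on the complement is nondegenerate -/
theorem nondeg_perp {v w : V} (h : HP (polarBilin Q) v w) (hQ : Nondeg Q) :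
    Nondeg (Q.comp (perp (polarBilin Q) v w).subtype) := fun x hx =>
  Cfsg.Agent.H152.AbDesc.nondeg h (B := polarBilin Q) (fun x hx => hQ x hx) x fun y => hx y

/-- an isometry of `V` from the action -/
noncomputable def eqv (ρ : X →* Module.End F V) (g : X) : V ≃ₗ[F] V :=
  LinearEquiv.ofLinearMap (ρ g) (ρ g⁻¹)
    (by
      have : ρ g * ρ g⁻¹ = 1 := by rw [← map_mul, mul_inv_cancel, map_one]
      exact this)
    (by
      have : ρ g⁻¹ * ρ g = 1 := by rw [← map_mul, inv_mul_cancel, map_one]
      exact this)

theorem eqv_apply (g : X) (v : V) : eqv ρ g v = ρ g v := rfl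

theorem finrank_fix_eqv (g : X) : finrank F (Cfsg.Agent.H890.SpParity.fix (eqv ρ g)) = pf (ρ g) := rfl

/-- the Siegel transformation moving the partner -/
theorem exists_siegel {v w w' : V} (h : Hyp Q v w) (h' : Hyp Q v w') :
    ∃ σ ∈ E Q, σ v = v ∧ σ w = w' ∧ ∀ x, polar Q v x = 0 → ∃ c : F, σ x = x + c • v := by
  have hw : polar Q v (w' - w) = 0 := by
    rw [polar_sub_right, h.pair, h'.pair, sub_self]
  refine ⟨siegel Q v (w' - w) h.left hw, siegel_mem_E _ _, ?_, ?_, ?_⟩
  · rw [siegel_apply, h.polar_left, polar_comm Q (w' - w) v, hw]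
    simp
  · have hQ' : Q (w' - w) = - polar Q w' w := by
      rw [sub_eq_add_neg, Q_add, QuadraticMap.map_neg, polar_neg_right, h.right, h'.right]
      ring
    rw [siegel_apply, h.pair, hQ', polar_sub_left, h.polar_right]
    module
  · intro x hx
    refine ⟨- polar Q (w' - w) x, ?_⟩
    rw [siegel_apply, hx]
    module

/-- **Parity of the descended action.** -/
theorem parity_desc (hQn : Nondeg Q) {v w : V} (hh : Hyp Q v w) (a : Act (polarBilin Q) v ρ)
    (hQ : ∀ g x, Q (ρ g x) = Q x) (g : X) : Even (pf (ρ g) + pf (desc (hp_of_hyp hh) a g)) := by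
  set h := hp_of_hyp hh
  set z := eqv ρ g with hz
  have hzO : z ∈ O Q := fun x => hQ g x
  have hzv : z v = v := a.fixv g
  have hh' : Hyp Q v (z w) := by
    have := hh.map hzO
    rwa [hzv] at this
  obtain ⟨σ, hσ, h1, h2, h3⟩ := exists_siegel hh hh'
  have hpar := Cfsg.Agent.H890.SpParity.parity_E hQn ((E Q).inv_mem hσ) hzO
  set y := σ⁻¹ * z with hy
  have hyO : y ∈ O Q := (O Q).mul_mem ((O Q).inv_mem (E_le_O hσ)) hzO
  have hyv : y v = v := by
    show σ⁻¹ (z v) = v
    rw [hzv]
    exact (LinearEquiv.symm_apply_eq σ).2 h1.symm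
  have hyw : y w = w := (LinearEquiv.symm_apply_eq σ).2 h2.symm
  have hyu : ∀ u : perp (polarBilin Q) v w, y (u : V) = desc h a g u := by
    intro u
    have e1 : polar Q v (desc h a g u : V) = 0 := (mem_perp.1 (desc h a g u).2).1
    obtain ⟨c, hc⟩ := h3 _ e1
    have e2 : ρ g u = desc h a g u + (polarBilin Q (ρ g u) w) • v := by
      rw [coe_desc]
      abel
    have e3 : y (u : V) = desc h a g u + (polarBilin Q (ρ g u) w - c) • v := by
      refine (LinearEquiv.symm_apply_eq σ).2 ?_
      rw [map_add, map_smul, h1, hc]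
      show ρ g u = _
      refine e2.trans ?_
      module
    have e4 : polar Q (y (u : V)) w = 0 := by
      have := polar_map hyO (u : V) w
      rw [hyw] at this
      rw [this]
      exact (mem_perp.1 u.2).2
    have e5 : polar Q (desc h a g u : V) w = 0 := (mem_perp.1 (desc h a g u).2).2
    rw [e3, polar_add_left, polar_smul_left, e5, hh.pair, zero_add, smul_eq_mul, mul_one] at e4
    rw [e3, e4, zero_smul, add_zero]
  have hrank : finrank F (Cfsg.Agent.H890.SpParity.fix y) = 2 + pf (desc h a g) := by
    let f : (F × F × LinearMap.ker (desc h a g - 1)) →ₗ[F] V :=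
      { toFun := fun p => p.1 • v + p.2.1 • w + ((p.2.2 : perp (polarBilin Q) v w) : V)
        map_add' := fun p r => by
          simp only [Prod.fst_add, Prod.snd_add, add_smul, Submodule.coe_add]
          abel
        map_smul' := fun c p => by
          simp only [Prod.smul_fst, Prod.smul_snd, smul_eq_mul, mul_smul, Submodule.coe_smul, RingHom.id_apply, smul_add] }
    have hfc : ∀ p, f p = (coord h).symm (p.1, p.2.1, (p.2.2 : perp (polarBilin Q) v w)) := fun p => rfl
    have hinj : Function.Injective f := by
      intro p r hpr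
      rw [hfc, hfc] at hpr
      have := (coord h).symm.injective hpr
      have e1 := congrArg Prod.fst this
      have e2 := congrArg (fun q => q.2.1) this
      have e3 := congrArg (fun q => q.2.2) this
      exact Prod.ext e1 (Prod.ext e2 (Subtype.ext e3))
    have hrange : LinearMap.range f = Cfsg.Agent.H890.SpParity.fix y := by
      ext x
      rw [LinearMap.mem_range, Cfsg.Agent.H890.SpParity.mem_fix]
      constructor
      · rintro ⟨p, rfl⟩
        show y (p.1 • v + p.2.1 • w + ((p.2.2 : perp (polarBilin Q) v w) : V)) = _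
        rw [map_add, map_add, map_smul, map_smul, hyv, hyw, hyu, mem_ker_sub_one.1 p.2.2.2]
        rfl
      · intro hx
        have e1 := eq_add h x
        have e2 : y x = polarBilin Q x w • v + polarBilin Q v x • w + desc h a g (proj h x) := by
          conv_lhs => rw [e1]
          rw [map_add, map_add, map_smul, map_smul, hyv, hyw, hyu]
        rw [hx] at e2
        have e3 : desc h a g (proj h x) = proj h x := by
          apply Subtype.ext
          have := e1.symm.trans e2
          exact (add_left_cancel this).symm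
        exact ⟨(polarBilin Q x w, polarBilin Q v x, ⟨proj h x, mem_ker_sub_one.2 e3⟩), e1.symm⟩
    rw [← hrange, LinearMap.finrank_range_of_inj hinj, finrank_prod, finrank_prod, finrank_self]
    unfold pf
    ring
  rw [hrank, finrank_fix_eqv] at hpar
  rw [Nat.even_iff] at hpar ⊢
  omega

/-- a `p`-element has a nonzero fixed vector in any nonzero space -/
theorem pf_pos (hX : IsPGroup p X) (hV : 0 < finrank F V) (g : X) : 0 < pf (ρ g) := by
  have : Finite V := Module.finite_of_finite F
  have : Nontrivial V := nontrivial_of_finrank_pos hV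
  have h1 : IsPGroup p (Subgroup.zpowers g) := hX.to_subgroup _
  obtain ⟨v, hv, hv0⟩ := Cfsg.Agent.H152.AbDesc.exists_fix h1 (ρ.comp (Subgroup.zpowers g).subtype)
  have h2 : ρ g v = v := hv ⟨g, Subgroup.mem_zpowers g⟩
  unfold pf
  have : Nontrivial (LinearMap.ker (ρ g - 1)) :=
    ⟨⟨⟨v, mem_ker_sub_one.2 h2⟩, 0, fun h => hv0 (congrArg Subtype.val h)⟩⟩
  exact finrank_pos

theorem pf_le (f : Module.End F V) : pf f ≤ finrank F V := Submodule.finrank_le _

theorem eq_one_of_pf {f : Module.End F V} (h : finrank F V ≤ pf f) : f = 1 := by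
  have h1 : LinearMap.ker (f - 1) = ⊤ := Submodule.eq_top_of_finrank_eq (le_antisymm (pf_le f) h)
  exact sub_eq_zero.1 (LinearMap.ker_eq_top.1 h1)

/-- a `p`-group of isometries of a space of dimension at most two is trivial (`p` odd or even parity) -/
theorem triv_of_le_two (hX : IsPGroup p X) (hQn : Nondeg Q) (hQ : ∀ g x, Q (ρ g x) = Q x)
    (hd : finrank F V ≤ 2) (hpar : p ≠ 2 ∨ ∀ g, Even (pf (ρ g) + finrank F V)) (g : X) : ρ g = 1 := by
  rcases Nat.eq_zero_or_pos (finrank F V) with h0 | hpos
  · exact eq_one_of_pf (by omega)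
  have h1 := pf_pos (ρ := ρ) hX hpos g
  have h2 := pf_le (ρ g)
  by_cases h3 : finrank F V ≤ pf (ρ g)
  · exact eq_one_of_pf h3
  have hd2 : finrank F V = 2 := by omega
  have hpf : pf (ρ g) = 1 := by omega
  rcases hpar with hp2 | hpar
  · -- `p` odd: `N = ρ g - 1` has square zero
    set N := ρ g - 1 with hN
    obtain ⟨k, hk⟩ := hX g
    have hnil : IsNilpotent N := by
      have : CharP (Module.End F V) p := by
        have : Nontrivial V := nontrivial_of_finrank_pos hpos
        exact charP_of_injective_algebraMap (algebraMap F (Module.End F V)).injective p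
      refine ⟨p ^ k, ?_⟩
      rw [hN, sub_pow_char_pow_of_commute _ _ (Commute.one_right _), one_pow, ← map_pow, hk, map_one, sub_self]
    have hN2 : ∀ x, N (N x) = 0 := by
      intro x
      have h4 := LinearMap.aeval_self_charpoly N
      rw [hnil.charpoly_eq_X_pow_finrank, hd2, map_pow, Polynomial.aeval_X, pow_two] at h4
      exact LinearMap.congr_fun h4 x
    have h5 : ∃ x, N x ≠ 0 := by
      by_contra hcon
      push Not at hcon
      have : N = 0 := LinearMap.ext hcon
      rw [hN, sub_eq_zero] at this
      apply h3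
      unfold pf
      rw [this, sub_self, LinearMap.ker_zero, finrank_top]
    obtain ⟨x, hx⟩ := h5
    exfalso
    apply hx
    have h2F : (2 : F) ≠ 0 := by
      intro h
      have : ((2 : ℕ) : F) = 0 := by exact_mod_cast h
      rw [CharP.cast_eq_zero_iff F p] at this
      have hp : p.Prime := Fact.out
      exact hp2 ((Nat.prime_dvd_prime_iff_eq hp Nat.prime_two).1 this)
    have e1 : ∀ v, ρ g v = v + N v := fun v => by
      rw [hN, LinearMap.sub_apply, Module.End.one_apply]
      abel
    have e2 : ∀ v w, polar Q (N v) w + polar Q v (N w) + polar Q (N v) (N w) = 0 := by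
      intro v w
      have h6 := (act_of (Q := Q) (ρ := ρ) hQ (v := 0) (fun g => map_zero _)).pres g v w
      rw [polarBilin_apply_apply, polarBilin_apply_apply, e1, e1, polar_add_left, polar_add_right, polar_add_right] at h6
      linear_combination h6
    have e3 : polar Q (N x) (N x) = 0 := by
      have := e2 x (N x)
      rw [hN2, polar_zero_right, polar_zero_right] at this
      linear_combination this
    have e4 : Q (N x) = 0 := by
      rw [polar_self'] at e3
      exact (mul_eq_zero.1 e3).resolve_left h2F
    have e5 : polar Q (N x) x = 0 := by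
      have := hQ g x
      rw [e1, Q_add, e4] at this
      rw [polar_comm]
      linear_combination this
    have hli : LinearIndependent F ![x, N x] := by
      rw [LinearIndependent.pair_iff]
      intro s t hst
      have e6 := congrArg N hst
      rw [map_add, map_smul, map_smul, hN2, smul_zero, add_zero, map_zero] at e6
      have e7 : s = 0 := (smul_eq_zero.1 e6).resolve_right hx
      rw [e7, zero_smul, zero_add] at hst
      exact ⟨e7, (smul_eq_zero.1 hst).resolve_right hx⟩
    have hspan : Submodule.span F (Set.range ![x, N x]) = ⊤ :=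
      hli.span_eq_top_of_card_eq_finrank (by rw [hd2, Fintype.card_fin])
    apply hQn
    intro y
    have hy : y ∈ Submodule.span F (Set.range ![x, N x]) := by rw [hspan]; exact Submodule.mem_top
    rw [Matrix.range_cons, Matrix.range_cons, Matrix.range_empty, Set.union_empty, Set.singleton_union,
      Submodule.mem_span_pair] at hy
    obtain ⟨s, t, rfl⟩ := hy
    rw [polar_add_right, polar_smul_right, polar_smul_right, e5, e3, smul_zero, smul_zero, add_zero]
  · have := hpar g
    rw [hpf, hd2] at this
    exact absurd this (by decide)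

/-- **The stable flag.** -/
theorem flag (p : ℕ) [Fact p.Prime] [CharP F p] {X : Type w} [Group X] (hX : IsPGroup p X) (k : ℕ) :
    ∀ {V : Type u} [AddCommGroup V] [Module F V] [FiniteDimensional F V] {Q : QuadraticForm F V}, Nondeg Q →
    ∀ {d : ℕ}, 1 ≤ d → d ≤ 2 → finrank F V = 2 * k + d → ∀ (ρ : X →* Module.End F V), (∀ g x, Q (ρ g x) = Q x) →
    (p ≠ 2 ∨ ∀ g, Even (pf (ρ g) + finrank F V)) →
    ∃ S : Submodule F V, finrank F S = k ∧ (∀ s ∈ S, Q s = 0) ∧ (∀ g, ∀ s ∈ S, ρ g s ∈ S) ∧
      ∀ g v, (∀ s ∈ S, polar Q s v = 0) → ρ g v - v ∈ S := by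
  induction k with
  | zero =>
    intro V _ _ _ Q hQn d hd1 hd2 hV ρ hQ hpar
    refine ⟨⊥, finrank_bot F V, ?_, ?_, ?_⟩
    · intro s hs
      rw [(Submodule.mem_bot F).1 hs, QuadraticMap.map_zero]
    · intro g s hs
      rw [(Submodule.mem_bot F).1 hs, map_zero]
      exact Submodule.zero_mem _
    · intro g v _
      rw [triv_of_le_two hX hQn hQ (by omega) hpar g, Module.End.one_apply, sub_self]
      exact Submodule.zero_mem _
  | succ k ih =>
    intro V _ _ _ Q hQn d hd1 hd2 hV ρ hQ hpar
    obtain ⟨v, hv0, hv, hfix⟩ := exists_fix_sing (Q := Q) (ρ := ρ) hX hQ (by omega)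
    obtain ⟨w, hh⟩ := exists_hyp hQn hv hv0
    set h := hp_of_hyp hh with hhdef
    have a := act_of (Q := Q) (ρ := ρ) hQ hfix
    have hfr := Cfsg.Agent.H152.AbDesc.finrank_eq h
    obtain ⟨S', hS1, hS2, hS3, hS4⟩ := ih (nondeg_perp h hQn) hd1 hd2 (by omega) (desc h a)
      (fun g x => desc_quad h a hv hQ g x) (by
        rcases hpar with h1 | h1
        · exact Or.inl h1
        · right
          intro g
          have h2 := h1 g
          have h3 := parity_desc hQn hh a hQ g
          rw [Nat.even_iff] at h2 h3 ⊢
          omega)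
    have hS'v : ∀ s ∈ S'.map (perp (polarBilin Q) v w).subtype, polar Q v s = 0 ∧ polar Q w s = 0 := by
      rintro _ ⟨s, hs, rfl⟩
      refine ⟨(mem_perp.1 s.2).1, ?_⟩
      rw [polar_comm]
      exact (mem_perp.1 s.2).2
    have hmem : ∀ x, x ∈ Submodule.span F {v} ⊔ S'.map (perp (polarBilin Q) v w).subtype ↔
        ∃ c : F, ∃ s ∈ S', x = c • v + (s : V) := by
      intro x
      rw [Submodule.mem_sup]
      constructor
      · rintro ⟨y, hy, z, ⟨s, hs, rfl⟩, rfl⟩
        obtain ⟨c, rfl⟩ := Submodule.mem_span_singleton.1 hy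
        exact ⟨c, s, hs, rfl⟩
      · rintro ⟨c, s, hs, rfl⟩
        exact ⟨c • v, Submodule.smul_mem _ _ (Submodule.mem_span_singleton_self v), s, ⟨s, hs, rfl⟩, rfl⟩
    refine ⟨Submodule.span F {v} ⊔ S'.map (perp (polarBilin Q) v w).subtype, ?_, ?_, ?_, ?_⟩
    · have hdis : Submodule.span F {v} ⊓ S'.map (perp (polarBilin Q) v w).subtype = ⊥ := by
        rw [eq_bot_iff]
        rintro x ⟨hx1, hx2⟩
        obtain ⟨c, rfl⟩ := Submodule.mem_span_singleton.1 hx1
        have h3 := (hS'v _ hx2).2
        rw [polar_smul_right, polar_comm, hh.pair, smul_eq_mul, mul_one] at h3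
        rw [h3, zero_smul]
        exact Submodule.zero_mem _
      have h3 := Submodule.finrank_sup_add_finrank_inf_eq (Submodule.span F {v})
        (S'.map (perp (polarBilin Q) v w).subtype)
      rw [hdis, finrank_bot, add_zero, finrank_span_singleton hv0,
        (Submodule.equivMapOfInjective _ (Submodule.subtype_injective _) S').finrank_eq.symm, hS1] at h3
      rw [h3]
      ring
    · intro x hx
      obtain ⟨c, s, hs, rfl⟩ := (hmem x).1 hx
      have h3 : Q (s : V) = 0 := hS2 s hs
      have h4 : polar Q v (s : V) = 0 := (mem_perp.1 s.2).1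
      rw [Q_add, QuadraticMap.map_smul, hv, h3, polar_smul_left, h4, smul_zero, smul_zero, add_zero, add_zero]
    · intro g x hx
      obtain ⟨c, s, hs, rfl⟩ := (hmem x).1 hx
      rw [map_add, map_smul, hfix]
      refine (hmem _).2 ⟨c + polarBilin Q (ρ g s) w, desc h a g s, hS3 g s hs, ?_⟩
      rw [coe_desc]
      module
    · intro g x hx
      have h3 : polar Q v x = 0 := hx v ((hmem _).2 ⟨1, 0, S'.zero_mem, by simp⟩)
      have h4 := eq_add h x
      have h5 : ∀ s ∈ S', polar Q (s : V) (proj h x : V) = 0 := by
        intro s hs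
        have h6 := hx (s : V) ((hmem _).2 ⟨0, s, hs, by simp⟩)
        rw [h4, polar_add_right, polar_add_right, polar_smul_right, polar_smul_right,
          polar_comm Q (s : V) v, (show polar Q v (s : V) = 0 from (mem_perp.1 s.2).1),
          (show polar Q (s : V) w = 0 from (mem_perp.1 s.2).2)] at h6
        simpa using h6
      have h7 := hS4 g (proj h x) h5
      refine (hmem _).2 ⟨polarBilin Q (ρ g (proj h x)) w, _, h7, ?_⟩
      have h8 : polarBilin Q v x = 0 := h3
      have h9 : ρ g x = polarBilin Q x w • v + ρ g (proj h x) := by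
        conv_lhs => rw [h4]
        rw [map_add, map_add, map_smul, hfix, h8, zero_smul, map_zero, add_zero]
      have h10 : x = polarBilin Q x w • v + proj h x := by
        conv_lhs => rw [h4]
        rw [h8, zero_smul, add_zero]
      rw [h9, Submodule.coe_sub, coe_desc]
      generalize (proj h x : V) = y at h10 ⊢
      generalize polarBilin Q x w = b at h10 ⊢
      rw [h10]
      module

end

end Cfsg.Agent.H530.NA
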