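import Cfsg.Agent.H530.NA.Semi
import Cfsg.Agent.H330.ClassSub
import Cfsg.Agent.H105.SzO1
import Cfsg.Agent.H955.QSpace

/-!
# S2451 (A): the row `POmega` of odd dimension (helper530)
-/

set_option autoImplicit false
set_option linter.unusedSectionVars false

namespace Cfsg.Agent.H530.NA

open QuadraticMap Module Polynomial
open Cfsg.Agent.LieClassical.OrthCore Cfsg.Agent.LieClassical.OrthTrans

universe u w

section

variable {F : Type*} [Field F] [Finite F] {V : Type u} [AddCommGroup V] [Module F V] [FiniteDimensional F V]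
  {Q : QuadraticForm F V} {X : Type w} [Group X]

/-- restriction of an action to a stable subspace -/
noncomputable def resRep (ρ : X →* Module.End F V) (U : Submodule F V) (hU : ∀ g, ∀ u ∈ U, ρ g u ∈ U) :
    X →* Module.End F U where
  toFun g := (ρ g).restrict (hU g)
  map_one' := by
    ext x
    show (ρ 1) x = x
    rw [map_one]
    rfl
  map_mul' g h := by
    ext x
    show (ρ (g * h)) x = ρ g (ρ h x)
    rw [map_mul]
    rfl

theorem coe_resRep (ρ : X →* Module.End F V) (U : Submodule F V) (hU : ∀ g, ∀ u ∈ U, ρ g u ∈ U) (g : X) (x : U) :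
    (resRep ρ U hU g x : V) = ρ g x := rfl

/-- the flag inside a stable orthogonal summand -/
theorem flag_sub (p : ℕ) [Fact p.Prime] [CharP F p] (hX : IsPGroup p X) {ρ : X →* Module.End F V}
    (hQ : ∀ g x, Q (ρ g x) = Q x) (hQn : Nondeg Q) {U W : Submodule F V} (h : U ⊔ W = ⊤)
    (hUW : ∀ u ∈ U, ∀ w ∈ W, polar Q u w = 0) (hU : ∀ g, ∀ u ∈ U, ρ g u ∈ U) {k d : ℕ} (hd1 : 1 ≤ d) (hd2 : d ≤ 2)
    (hk : finrank F U = 2 * k + d) (hpar : p ≠ 2 ∨ ∀ g, Even (pf (resRep ρ U hU g) + finrank F U)) :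
    ∃ S : Submodule F V, S ≤ U ∧ finrank F S = k ∧ (∀ s ∈ S, Q s = 0) ∧ (∀ g, ∀ s ∈ S, ρ g s ∈ S) ∧
      ∀ g, ∀ v ∈ U, (∀ s ∈ S, polar Q s v = 0) → ρ g v - v ∈ S := by
  obtain ⟨S, hS1, hS2, hS3, hS4⟩ := flag p hX k (nondeg_sub hQn h hUW) hd1 hd2 hk (resRep ρ U hU)
    (fun g x => hQ g x) hpar
  refine ⟨S.map U.subtype, Submodule.map_subtype_le _ _, ?_, ?_, ?_, ?_⟩
  · rw [(Submodule.equivMapOfInjective _ (Submodule.subtype_injective _) S).finrank_eq.symm, hS1]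
  · rintro _ ⟨s, hs, rfl⟩
    exact hS2 s hs
  · rintro g _ ⟨s, hs, rfl⟩
    exact ⟨_, hS3 g s hs, rfl⟩
  · intro g v hv hv'
    have := hS4 g ⟨v, hv⟩ (fun s hs => hv' s ⟨s, hs, rfl⟩)
    exact ⟨_, this, rfl⟩

/-- **The stable flag of codimension one step in odd dimension.** -/
theorem flag_odd (p : ℕ) [Fact p.Prime] [CharP F p] (hp2 : p ≠ 2) (hX : IsPGroup p X) {ρ : X →* Module.End F V}
    (hQ : ∀ g x, Q (ρ g x) = Q x) (hQn : Nondeg Q) {U W : Submodule F V} (h : U ⊔ W = ⊤) (h' : U ⊓ W = ⊥)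
    (hUW : ∀ u ∈ U, ∀ w ∈ W, polar Q u w = 0) (hU : ∀ g, ∀ u ∈ U, ρ g u ∈ U) (hW : ∀ g, ∀ u ∈ W, ρ g u ∈ W)
    {k l : ℕ} (hk : finrank F U = 2 * k + 1) (hl : finrank F W = 2 * l + 2) :
    ∃ S : Submodule F V, finrank F S = k + l ∧ (∀ s ∈ S, Q s = 0) ∧ (∀ g, ∀ s ∈ S, ρ g s ∈ S) ∧
      ∀ g, ∀ v, (∀ s ∈ S, polar Q s v = 0) → ρ g v - v ∈ S := by
  obtain ⟨S, hSU, hS1, hS2, hS3, hS4⟩ := flag_sub p hX hQ hQn h hUW hU le_rfl (by omega) hk (Or.inl hp2)
  obtain ⟨T, hTW, hT1, hT2, hT3, hT4⟩ := flag_sub p hX hQ hQn (by rw [sup_comm]; exact h)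
    (fun u hu w hw => by rw [polar_comm]; exact hUW w hw u hu) hW (by omega) le_rfl hl (Or.inl hp2)
  refine ⟨S ⊔ T, ?_, ?_, ?_, ?_⟩
  · have h1 := Submodule.finrank_sup_add_finrank_inf_eq S T
    have h2 : S ⊓ T = ⊥ := by
      rw [eq_bot_iff, ← h']
      exact inf_le_inf hSU hTW
    rw [h2, finrank_bot, add_zero] at h1
    rw [h1, hS1, hT1]
  · intro x hx
    obtain ⟨s, hs, t, ht, rfl⟩ := Submodule.mem_sup.1 hx
    rw [Q_add, hS2 s hs, hT2 t ht, hUW s (hSU hs) t (hTW ht), add_zero, add_zero]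
  · intro g x hx
    obtain ⟨s, hs, t, ht, rfl⟩ := Submodule.mem_sup.1 hx
    rw [map_add]
    exact Submodule.add_mem_sup (hS3 g s hs) (hT3 g t ht)
  · intro g v hv
    have hv1 : v ∈ U ⊔ W := by rw [h]; exact Submodule.mem_top
    obtain ⟨x, hx, y, hy, rfl⟩ := Submodule.mem_sup.1 hv1
    have h1 := hS4 g x hx (fun s hs => by
      have := hv s (Submodule.mem_sup_left hs)
      rwa [polar_add_right, hUW s (hSU hs) y hy, add_zero] at this)
    have h2 := hT4 g y hy (fun s hs => by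
      have := hv s (Submodule.mem_sup_right hs)
      rwa [polar_add_right, polar_comm Q s x, hUW x hx s (hTW hs), zero_add] at this)
    have e : ρ g (x + y) - (x + y) = (ρ g x - x) + (ρ g y - y) := by
      rw [map_add]
      abel
    rw [e]
    exact Submodule.add_mem_sup h1 h2

end

section

variable {F : Type*} [Field F] [Finite F] {V : Type u} [AddCommGroup V] [Module F V] [FiniteDimensional F V]
  {Q : QuadraticForm F V}

/-- the action of a subgroup of `E Q` -/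
noncomputable def rp (X : Subgroup ↥(E Q)) : X →* Module.End F V where
  toFun g := ((g : ↥(E Q)) : V ≃ₗ[F] V).toLinearMap
  map_one' := rfl
  map_mul' _ _ := rfl

theorem rp_apply (X : Subgroup ↥(E Q)) (g : X) (v : V) : rp X g v = ((g : ↥(E Q)) : V ≃ₗ[F] V) v := rfl

theorem rp_Q (X : Subgroup ↥(E Q)) (g : X) (v : V) : Q (rp X g v) = Q v := E_le_O g.1.2 v

/-- the elements stabilising `S` and trivial on `S^⊥ / S` -/
def HS (S : Submodule F V) : Subgroup ↥(E Q) where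
  carrier := {g | (∀ s, (g : V ≃ₗ[F] V) s ∈ S ↔ s ∈ S) ∧
    ∀ v, (∀ s ∈ S, polar Q s v = 0) → (g : V ≃ₗ[F] V) v - v ∈ S}
  one_mem' := ⟨fun s => Iff.rfl, fun v _ => by
    show v - v ∈ S
    rw [sub_self]
    exact S.zero_mem⟩
  mul_mem' := by
    rintro g h ⟨hg1, hg2⟩ ⟨hh1, hh2⟩
    refine ⟨fun s => (hg1 _).trans (hh1 s), fun v hv => ?_⟩
    show (g : V ≃ₗ[F] V) ((h : V ≃ₗ[F] V) v) - v ∈ S
    have e : (g : V ≃ₗ[F] V) ((h : V ≃ₗ[F] V) v) - v = (g : V ≃ₗ[F] V) ((h : V ≃ₗ[F] V) v - v) + ((g : V ≃ₗ[F] V) v - v) := by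
      rw [map_sub]
      abel
    rw [e]
    exact S.add_mem ((hg1 _).2 (hh2 v hv)) (hg2 v hv)
  inv_mem' := by
    rintro g ⟨hg1, hg2⟩
    have hgi : ∀ v, (g : V ≃ₗ[F] V) (((g⁻¹ : ↥(E Q)) : V ≃ₗ[F] V) v) = v := fun v =>
      LinearEquiv.apply_symm_apply (g : V ≃ₗ[F] V) v
    have hi : ∀ s, ((g⁻¹ : ↥(E Q)) : V ≃ₗ[F] V) s ∈ S ↔ s ∈ S := fun s => by
      rw [← hg1 (((g⁻¹ : ↥(E Q)) : V ≃ₗ[F] V) s), hgi]
    refine ⟨hi, fun v hv => ?_⟩
    set v' := ((g⁻¹ : ↥(E Q)) : V ≃ₗ[F] V) v with hv'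
    have h1 : ∀ s ∈ S, polar Q s v' = 0 := by
      intro s hs
      have := polar_map (E_le_O g.2) s v'
      rw [hgi] at this
      rw [← this]
      exact hv _ ((hg1 s).2 hs)
    have h2 := hg2 v' h1
    rw [hgi] at h2
    have h3 := S.neg_mem h2
    rwa [neg_sub] at h3

theorem mem_HS {S : Submodule F V} {g : ↥(E Q)} : g ∈ HS S ↔ (∀ s, (g : V ≃ₗ[F] V) s ∈ S ↔ s ∈ S) ∧
    ∀ v, (∀ s ∈ S, polar Q s v = 0) → (g : V ≃ₗ[F] V) v - v ∈ S := Iff.rfl

/-- totally singular subspaces of the same small dimension are conjugate -/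
theorem exists_map_ts (hQn : Nondeg Q) (hd : 5 ≤ finrank F V) {S T : Submodule F V} (hS : ∀ s ∈ S, Q s = 0)
    (hT : ∀ s ∈ T, Q s = 0) (h : finrank F S = finrank F T) (h2 : 2 * finrank F S + 2 ≤ finrank F V) :
    ∃ k : ↥(E Q), ∀ s, (k : V ≃ₗ[F] V) s ∈ T ↔ s ∈ S := by
  let e : S ≃ₗ[F] T := LinearEquiv.ofFinrankEq S T h
  obtain ⟨g, hg, hgS⟩ := Cfsg.Agent.H105.SzO.trans_ts hQn hd (f := S.subtype) (f' := T.subtype.comp e.toLinearMap)
    S.subtype_injective (T.subtype_injective.comp e.injective) (fun x => hS x x.2) (fun x => hT _ (e x).2) h2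
  refine ⟨⟨g, hg⟩, fun s => ?_⟩
  constructor
  · intro hs
    have h3 := hgS (e.symm ⟨g s, hs⟩)
    have h4 : g ((e.symm ⟨g s, hs⟩ : S) : V) = g s := by
      have h5 : e (e.symm ⟨g s, hs⟩) = ⟨g s, hs⟩ := e.apply_symm_apply _
      have h6 : ((T.subtype.comp e.toLinearMap) (e.symm ⟨g s, hs⟩) : V) = (e (e.symm ⟨g s, hs⟩) : T) := rfl
      rw [h6, h5] at h3
      exact h3
    rw [← g.injective h4]
    exact (e.symm ⟨g s, hs⟩).2
  · intro hs
    have h3 := hgS ⟨s, hs⟩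
    have h4 : g s = ((e ⟨s, hs⟩ : T) : V) := h3
    show g s ∈ T
    rw [h4]
    exact (e ⟨s, hs⟩).2

/-- conjugation into `HS S₀` -/
theorem conj_into (hQn : Nondeg Q) (hd : 5 ≤ finrank F V) {S T : Submodule F V} (hS : ∀ s ∈ S, Q s = 0)
    (hT : ∀ s ∈ T, Q s = 0) (h : finrank F S = finrank F T) (h2 : 2 * finrank F S + 2 ≤ finrank F V)
    {X : Subgroup ↥(E Q)} (h3 : ∀ g, ∀ s ∈ S, rp X g s ∈ S)
    (h4 : ∀ g, ∀ v, (∀ s ∈ S, polar Q s v = 0) → rp X g v - v ∈ S) :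
    ∃ k : ↥(E Q), ∀ x ∈ X, k * x * k⁻¹ ∈ HS T := by
  obtain ⟨k, hk⟩ := exists_map_ts hQn hd hS hT h h2
  have hkk : ∀ v, (k : V ≃ₗ[F] V) (((k⁻¹ : ↥(E Q)) : V ≃ₗ[F] V) v) = v := fun v =>
    LinearEquiv.apply_symm_apply (k : V ≃ₗ[F] V) v
  have hk' : ∀ t, ((k⁻¹ : ↥(E Q)) : V ≃ₗ[F] V) t ∈ S ↔ t ∈ T := fun t => by rw [← hk, hkk]
  refine ⟨k, fun x hx => ?_⟩
  have hxs : ∀ s, (x : V ≃ₗ[F] V) s ∈ S ↔ s ∈ S := by
    intro s
    constructor
    · intro hs
      have := h3 ⟨x, hx⟩⁻¹ _ hs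
      rw [rp_apply] at this
      have e : (((⟨x, hx⟩⁻¹ : X) : ↥(E Q)) : V ≃ₗ[F] V) ((x : V ≃ₗ[F] V) s) = s :=
        LinearEquiv.symm_apply_apply (x : V ≃ₗ[F] V) s
      rwa [e] at this
    · intro hs
      exact h3 ⟨x, hx⟩ s hs
  rw [mem_HS]
  refine ⟨fun t => ?_, fun v hv => ?_⟩
  · show (k : V ≃ₗ[F] V) ((x : V ≃ₗ[F] V) (((k⁻¹ : ↥(E Q)) : V ≃ₗ[F] V) t)) ∈ T ↔ t ∈ T
    rw [hk, hxs, hk']
  · set v' := ((k⁻¹ : ↥(E Q)) : V ≃ₗ[F] V) v with hv'
    have e1 : ∀ s ∈ S, polar Q s v' = 0 := by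
      intro s hs
      have := polar_map (E_le_O k.2) s v'
      rw [hkk] at this
      rw [← this]
      exact hv _ ((hk s).2 hs)
    have e2 : (x : V ≃ₗ[F] V) v' - v' ∈ S := h4 ⟨x, hx⟩ v' e1
    have e3 : (k : V ≃ₗ[F] V) ((x : V ≃ₗ[F] V) v' - v') ∈ T := (hk _).2 e2
    rw [map_sub, hkk] at e3
    exact e3

theorem siegel_pow {u w : V} (hu : Q u = 0) (hw : polar Q u w = 0) (n : ℕ) (hn : polar Q u (n • w) = 0) :
    siegel Q u w hu hw ^ n = siegel Q u (n • w) hu hn := by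
  induction n with
  | zero =>
    refine LinearEquiv.ext fun v => ?_
    rw [pow_zero, siegel_apply, zero_smul]
    simp
  | succ n ih =>
    have h1 : polar Q u (n • w) = 0 := by
      rw [← Nat.cast_smul_eq_nsmul F, polar_smul_right, hw, smul_zero]
    have h2 : polar Q u (n • w + w) = 0 := by rw [polar_add_right, h1, hw, add_zero]
    rw [pow_succ, ih h1, siegel_mul hu h1 hw h2]
    congr 1
    rw [succ_nsmul]

/-- the polar form vanishes on totally singular subspaces -/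
theorem polar_of_ts {T : Submodule F V} (hT : ∀ s ∈ T, Q s = 0) {s t : V} (hs : s ∈ T) (ht : t ∈ T) :
    polar Q s t = 0 := by
  rw [QuadraticMap.polar, hT _ (T.add_mem hs ht), hT s hs, hT t ht]
  ring

/-- a `p`-element normalising `HS T` and not in `HS T` -/
theorem exists_norm (p : ℕ) [Fact p.Prime] [CharP F p] (hQn : Nondeg Q) {T T' : Submodule F V}
    (hT' : ∀ s ∈ T', Q s = 0) (hTT : T < T') (hdim : 2 * finrank F T + 3 ≤ finrank F V) :
    ∃ g : ↥(E Q), g ∉ HS T ∧ (∃ k : ℕ, g ^ p ^ k = 1) ∧ ∀ h ∈ HS T, g * h * g⁻¹ ∈ HS T := by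
  obtain ⟨u, huT', huT⟩ := SetLike.exists_of_lt hTT
  set P := T ⊔ Submodule.span F {u} with hP
  have huP : u ∈ P := Submodule.mem_sup_right (Submodule.mem_span_singleton_self u)
  have hPT : P ≤ T' := sup_le hTT.le ((Submodule.span_singleton_le_iff_mem _ _).2 huT')
  have hu : Q u = 0 := hT' u huT'
  have hfP : finrank F P ≤ finrank F T + 1 := by
    refine (Submodule.finrank_add_le_finrank_add_finrank _ _).trans ?_
    rw [finrank_span_singleton (K := F) (v := u) (by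
      rintro rfl
      exact huT T.zero_mem)]
  obtain ⟨w, hwP, hw⟩ : ∃ w ∈ Cfsg.Agent.H955.perp Q P, w ∉ P := by
    by_contra hcon
    push Not at hcon
    have h1 := Submodule.finrank_mono (show Cfsg.Agent.H955.perp Q P ≤ P from hcon)
    have h2 := Cfsg.Agent.H955.finrank_add_perp hQn P
    omega
  have huw : polar Q u w = 0 := hwP u huP
  have hTw : ∀ s ∈ T, polar Q w s = 0 := fun s hs => by
    rw [polar_comm]
    exact hwP s (Submodule.mem_sup_left hs)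
  have hTu : ∀ s ∈ T, polar Q u s = 0 := fun s hs => polar_of_ts hT' huT' (hTT.le hs)
  set g : ↥(E Q) := ⟨siegel Q u w hu huw, siegel_mem_E _ _⟩ with hg
  have hgv : ∀ v, (g : V ≃ₗ[F] V) v = v + polar Q u v • w - polar Q w v • u - (Q w * polar Q u v) • u := fun v => by
    show siegel Q u w hu huw v = _
    rw [siegel_apply]
  have hgT : ∀ s ∈ T, (g : V ≃ₗ[F] V) s = s := fun s hs => by
    rw [hgv, hTw s hs, hTu s hs]
    simp
  have hgi : ∀ v, (g : V ≃ₗ[F] V) (((g⁻¹ : ↥(E Q)) : V ≃ₗ[F] V) v) = v := fun v =>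
    LinearEquiv.apply_symm_apply (g : V ≃ₗ[F] V) v
  have hgT' : ∀ s, (g : V ≃ₗ[F] V) s ∈ T ↔ s ∈ T := by
    intro s
    constructor
    · intro hs
      have h1 := hgT _ hs
      have h2 := (g : V ≃ₗ[F] V).injective h1
      rwa [h2] at hs
    · intro hs
      rwa [hgT s hs]
  refine ⟨g, ?_, ⟨1, ?_⟩, ?_⟩
  · intro hgH
    obtain ⟨t, ht, htu⟩ : ∃ t ∈ Cfsg.Agent.H955.perp Q T, polar Q u t ≠ 0 := by
      by_contra hcon
      push Not at hcon
      apply huT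
      rw [← Cfsg.Agent.H955.perp_perp hQn T]
      intro t ht
      rw [polar_comm]
      exact hcon t ht
    have h1 := (mem_HS.1 hgH).2 t ht
    rw [hgv] at h1
    apply hw
    have h2 : polar Q u t • w ∈ P := by
      have e : polar Q u t • w = (t + polar Q u t • w - polar Q w t • u - (Q w * polar Q u t) • u - t) +
          (polar Q w t + Q w * polar Q u t) • u := by module
      rw [e]
      exact P.add_mem (Submodule.mem_sup_left h1) (P.smul_mem _ huP)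
    have h3 := P.smul_mem (polar Q u t)⁻¹ h2
    rwa [smul_smul, inv_mul_cancel₀ htu, one_smul] at h3
  · rw [pow_one]
    apply Subtype.ext
    have hpw : (p • w : V) = 0 := by
      rw [← Nat.cast_smul_eq_nsmul F, CharP.cast_eq_zero, zero_smul]
    have h1 : polar Q u (p • w) = 0 := by rw [hpw, polar_zero_right]
    show siegel Q u w hu huw ^ p = 1
    rw [siegel_pow hu huw p h1]
    refine LinearEquiv.ext fun v => ?_
    rw [siegel_apply, hpw]
    simp
  · intro h hh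
    rw [mem_HS] at hh ⊢
    have hii : ∀ s, ((g⁻¹ : ↥(E Q)) : V ≃ₗ[F] V) s ∈ T ↔ s ∈ T := fun s => by rw [← hgT', hgi]
    refine ⟨fun s => ?_, fun v hv => ?_⟩
    · show (g : V ≃ₗ[F] V) ((h : V ≃ₗ[F] V) (((g⁻¹ : ↥(E Q)) : V ≃ₗ[F] V) s)) ∈ T ↔ s ∈ T
      rw [hgT', hh.1, hii]
    · set v' := ((g⁻¹ : ↥(E Q)) : V ≃ₗ[F] V) v with hv'
      have e1 : ∀ s ∈ T, polar Q s v' = 0 := by
        intro s hs
        have := polar_map (E_le_O g.2) s v'
        rw [hgi, hgT s hs] at this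
        rw [← this]
        exact hv s hs
      have e2 := hh.2 v' e1
      have e3 := (hgT' _).2 e2
      rw [map_sub, hgi] at e3
      exact e3

/-- **The odd row.** -/
theorem notA_odd {p : ℕ} [Fact p.Prime] [CharP F p] (hp2 : p ≠ 2) (hQn : Nondeg Q) {n : ℕ} (hn : 2 ≤ n)
    (hV : finrank F V = 2 * n + 1) {G : Type*} [Group G] [Finite G] {π : ↥(E Q) →* G}
    (hS : FixBN.HasSplit p G) (hs : Function.Surjective π) (hc : π.ker ≤ Subgroup.center ↥(E Q))
    (hk : ¬ p ∣ Nat.card π.ker) : Cfsg.Agent.H27.AH.NotA p G := by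
  have hp : p.Prime := Fact.out
  have hfV : Finite V := Module.finite_of_finite F
  have hfE : Finite (V ≃ₗ[F] V) := Finite.of_injective (fun g : V ≃ₗ[F] V => (g : V → V)) DFunLike.coe_injective
  -- a totally singular subspace of dimension `n`
  obtain ⟨T', hT'1, hT'2, -, -⟩ := flag p (X := (⊥ : Subgroup ↥(E Q))) IsPGroup.of_bot n hQn le_rfl (by omega) hV
    (rp ⊥) (rp_Q ⊥) (Or.inl hp2)
  -- a hyperplane of it
  obtain ⟨T, hTT, hT1⟩ : ∃ T : Submodule F V, T ≤ T' ∧ finrank F T = n - 1 := by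
    let b : Basis (Fin n) F T' := finBasisOfFinrankEq F T' hT'1
    let f : Fin (n - 1) → V := fun i => (b (Fin.castLE (Nat.sub_le n 1) i) : V)
    have hf : LinearIndependent F f := by
      have h1 : LinearIndependent F (fun i => (b i : V)) := b.linearIndependent.map' T'.subtype (Submodule.ker_subtype _)
      exact h1.comp _ (Fin.castLE_injective _)
    refine ⟨Submodule.span F (Set.range f), ?_, ?_⟩
    · rw [Submodule.span_le]
      rintro _ ⟨i, rfl⟩
      exact (b _).2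
    · rw [finrank_span_eq_card hf, Fintype.card_fin]
  have hlt : T < T' := lt_of_le_of_ne hTT (by
    rintro rfl
    omega)
  have hTs : ∀ s ∈ T, Q s = 0 := fun s hs => hT'2 s (hTT hs)
  obtain ⟨g, hg, hgp, hgn⟩ := exists_norm p hQn hT'2 hlt (by omega)
  refine Cfsg.Agent.H330.ClassSub.notA_of_linear hS hs hc hk hg hgp hgn ?_
  intro a ha hπa X hX hXa
  have ha1 : a ≠ 1 := by
    rintro rfl
    exact hπa (map_one π)
  set f : Module.End F V := (a : V ≃ₗ[F] V).toLinearMap with hf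
  have hfn : f ^ orderOf a = 1 := by
    have h1 : ∀ m : ℕ, ∀ v, (f ^ m) v = ((a ^ m : ↥(E Q)) : V ≃ₗ[F] V) v := by
      intro m
      induction m with
      | zero => intro v; rfl
      | succ m ih =>
        intro v
        rw [pow_succ', pow_succ']
        show f ((f ^ m) v) = (a : V ≃ₗ[F] V) (((a ^ m : ↥(E Q)) : V ≃ₗ[F] V) v)
        rw [ih]
        rfl
    ext v
    rw [h1, pow_orderOf_eq_one]
    rfl
  have hss := isSemisimple (F := F) (by rwa [Ne, CharP.cast_eq_zero_iff F p]) hfn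
  have hgp1 : ∀ v, aeval f (Polynomial.X - C (1 : F)) v = (a : V ≃ₗ[F] V) v - (1 : F) • v := by
    intro v
    rw [map_sub, aeval_X, aeval_C, map_one, one_smul]
    rfl
  obtain ⟨h1, h2⟩ := ker_sup_range hss (Polynomial.X - C (1 : F))
  set U := LinearMap.ker (aeval f (Polynomial.X - C (1 : F))) with hU
  set W := LinearMap.range (aeval f (Polynomial.X - C (1 : F))) with hW
  have hmU : ∀ v, v ∈ U ↔ (a : V ≃ₗ[F] V) v = v := fun v => by
    rw [hU, LinearMap.mem_ker, hgp1, one_smul, sub_eq_zero]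
  have hUW : ∀ u ∈ U, ∀ w ∈ W, polar Q u w = 0 := by
    rintro u hu _ ⟨w, rfl⟩
    rw [hgp1]
    exact polar_range (E_le_O a.2) (one_mul 1) (by rw [(hmU u).1 hu, one_smul])
  have hcomm : ∀ (x : X) v, rp X x ((a : V ≃ₗ[F] V) v) = (a : V ≃ₗ[F] V) (rp X x v) := fun x v => by
    have := hXa x.1 x.2
    exact LinearEquiv.congr_fun (congrArg Subtype.val this) v
  have hUst : ∀ g, ∀ u ∈ U, rp X g u ∈ U := by
    intro g u hu
    rw [hmU] at hu ⊢
    rw [← hcomm, hu]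
  have hWst : ∀ g, ∀ u ∈ W, rp X g u ∈ W := by
    rintro g _ ⟨w, rfl⟩
    refine ⟨rp X g w, ?_⟩
    rw [hgp1, hgp1, map_sub, hcomm, map_smul]
  have hfix : Cfsg.Agent.H890.SpParity.fix (a : V ≃ₗ[F] V) = U := by
    ext v
    rw [Cfsg.Agent.H890.SpParity.mem_fix, hmU]
  have hpar := Cfsg.Agent.H890.SpParity.even_E hQn a.2
  rw [hfix, hV] at hpar
  have hsum := Submodule.finrank_sup_add_finrank_inf_eq U W
  rw [h1, h2, finrank_bot, finrank_top, add_zero, hV] at hsum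
  have hW0 : finrank F W ≠ 0 := by
    intro h0
    apply ha1
    apply Subtype.ext
    refine LinearEquiv.ext fun v => ?_
    have h3 : U = ⊤ := by
      rw [Submodule.finrank_eq_zero] at h0
      rw [h0, sup_bot_eq] at h2
      exact h2
    exact (hmU v).1 (by rw [h3]; exact Submodule.mem_top)
  obtain ⟨k, hk'⟩ : ∃ k, finrank F U = 2 * k + 1 := by
    rw [Nat.even_iff] at hpar
    exact ⟨finrank F U / 2, by omega⟩
  obtain ⟨l, hl'⟩ : ∃ l, finrank F W = 2 * l + 2 := ⟨(finrank F W - 2) / 2, by omega⟩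
  obtain ⟨S, hS1, hS2, hS3, hS4⟩ := flag_odd p hp2 hX (ρ := rp X) (rp_Q X) hQn h2 h1 hUW hUst hWst hk' hl'
  exact conj_into hQn (by omega) hS2 hTs (by omega) (by omega) hS3 hS4

end

end Cfsg.Agent.H530.NA
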